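import Cfsg.Agent.HSRecog.Cert4.RuleData

/-! Generated by tools/dcoset/emit.py: step words. -/

set_option Elab.async false

namespace Cfsg.Agent.HSRecog.Cert4

open Cfsg.Agent.DCoset Cfsg.Agent.CosetCert

def argWS_1 : Store := (.node 10 (.node 5 (.node 2 (.node 1 (.leaf 0x1) (.leaf 0x20001)) (.node 3 (.leaf 0x40001) (.node 4 (.leaf 0x60001) (.leaf 0x20001)))) (.node 7 (.node 6 (.leaf 0x0) (.leaf 0x20001)) (.node 8 (.leaf 0x0) (.node 9 (.leaf 0x1) (.leaf 0x0))))) (.node 15 (.node 12 (.node 11 (.leaf 0x40001) (.leaf 0x0)) (.node 13 (.leaf 0x20001) (.node 14 (.leaf 0x0) (.leaf 0x1)))) (.node 17 (.node 16 (.leaf 0x0) (.leaf 0x1)) (.node 18 (.leaf 0x0) (.node 19 (.leaf 0x60002) (.leaf 0x0))))))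

def argWS_2 : Store := (.node 30 (.node 25 (.node 22 (.node 21 (.leaf 0x20001) (.leaf 0x0)) (.node 23 (.leaf 0x2060002) (.node 24 (.leaf 0x0) (.leaf 0x1)))) (.node 27 (.node 26 (.leaf 0x0) (.leaf 0x40002)) (.node 28 (.leaf 0x0) (.node 29 (.leaf 0x40002) (.leaf 0x0))))) (.node 35 (.node 32 (.node 31 (.leaf 0x4020003) (.leaf 0x0)) (.node 33 (.leaf 0x60001) (.node 34 (.leaf 0x0) (.leaf 0x10604020004)))) (.node 37 (.node 36 (.leaf 0x0) (.leaf 0x20001)) (.node 38 (.leaf 0x0) (.node 39 (.leaf 0x2040002) (.leaf 0x0))))))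

def argWS_3 : Store := (.node 20 argWS_1 argWS_2)

def argWS_4 : Store := (.node 50 (.node 45 (.node 42 (.node 41 (.leaf 0x40001) (.leaf 0x0)) (.node 43 (.leaf 0x4020002) (.node 44 (.leaf 0x0) (.leaf 0x4020002)))) (.node 47 (.node 46 (.leaf 0x0) (.leaf 0x2040002)) (.node 48 (.leaf 0x0) (.node 49 (.leaf 0x60002) (.leaf 0x0))))) (.node 55 (.node 52 (.node 51 (.leaf 0x6020003) (.leaf 0x0)) (.node 53 (.leaf 0x60001) (.node 54 (.leaf 0x0) (.leaf 0x10001)))) (.node 57 (.node 56 (.leaf 0x0) (.leaf 0x10001)) (.node 58 (.leaf 0x0) (.node 59 (.leaf 0x1040002) (.leaf 0x0))))))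

def argWS_5 : Store := (.node 70 (.node 65 (.node 62 (.node 61 (.leaf 0x60002) (.leaf 0x0)) (.node 63 (.leaf 0x6020003) (.node 64 (.leaf 0x0) (.leaf 0x10604020004)))) (.node 67 (.node 66 (.leaf 0x0) (.leaf 0x1050306030005)) (.node 68 (.leaf 0x0) (.node 69 (.leaf 0x2040002) (.leaf 0x0))))) (.node 75 (.node 72 (.node 71 (.leaf 0x303040003) (.leaf 0x0)) (.node 73 (.leaf 0x6020003) (.node 74 (.leaf 0x0) (.leaf 0x200020006020402060303000b)))) (.node 77 (.node 76 (.leaf 0x0) (.leaf 0x303040003)) (.node 78 (.leaf 0x0) (.node 79 (.leaf 0x303010306030006) (.leaf 0x0))))))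

def argWS_6 : Store := (.node 60 argWS_4 argWS_5)

def argWS_7 : Store := (.node 40 argWS_3 argWS_6)

def argWS_8 : Store := (.node 90 (.node 85 (.node 82 (.node 81 (.leaf 0x303010306030006) (.leaf 0x0)) (.node 83 (.leaf 0x60000020002060202060304000c) (.node 84 (.leaf 0x0) (.leaf 0x200020006020402060303000b)))) (.node 87 (.node 86 (.leaf 0x0) (.leaf 0x40300000306040007)) (.node 88 (.leaf 0x0) (.node 89 (.leaf 0x4020002) (.leaf 0x0))))) (.node 95 (.node 92 (.node 91 (.leaf 0x206050003) (.leaf 0x0)) (.node 93 (.leaf 0x1050306030005) (.node 94 (.leaf 0x0) (.leaf 0x1020103050306030008)))) (.node 97 (.node 96 (.leaf 0x0) (.leaf 0x6020003)) (.node 98 (.leaf 0x0) (.node 99 (.leaf 0x4000200030604020008) (.leaf 0x0))))))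

def argWS_9 : Store := (.node 110 (.node 105 (.node 102 (.node 101 (.leaf 0x60001) (.leaf 0x0)) (.node 103 (.leaf 0x6040003) (.node 104 (.leaf 0x0) (.leaf 0x206050003)))) (.node 107 (.node 106 (.leaf 0x0) (.leaf 0x10300030503060007)) (.node 108 (.leaf 0x0) (.node 109 (.leaf 0x6040003) (.leaf 0x0))))) (.node 115 (.node 112 (.node 111 (.leaf 0x6050004) (.leaf 0x0)) (.node 113 (.leaf 0x2060002) (.node 114 (.leaf 0x0) (.leaf 0x50000020002060202060304000c)))) (.node 117 (.node 116 (.leaf 0x0) (.leaf 0x1040002)) (.node 118 (.leaf 0x0) (.node 119 (.leaf 0x3010301060005) (.leaf 0x0))))))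

def argWS_10 : Store := (.node 100 argWS_8 argWS_9)

def argWS_11 : Store := (.node 130 (.node 125 (.node 122 (.node 121 (.leaf 0x10300030503060007) (.leaf 0x0)) (.node 123 (.leaf 0x400030002060402060303000b) (.node 124 (.leaf 0x0) (.leaf 0x40300000306040007)))) (.node 127 (.node 126 (.leaf 0x0) (.leaf 0x403000006020605030009)) (.node 128 (.leaf 0x0) (.node 129 (.leaf 0x4000200030604020008) (.leaf 0x0))))) (.node 135 (.node 132 (.node 131 (.leaf 0x3060002000605030008) (.leaf 0x0)) (.node 133 (.leaf 0x0) (.node 134 (.leaf 0x6000301020603030008) (.leaf 0x6000301020603030008)))) (.node 137 (.node 136 (.leaf 0x0) (.leaf 0x0)) (.node 138 (.leaf 0x402040003) (.node 139 (.leaf 0x402040003) (.leaf 0x0))))))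

def argWS_12 : Store := (.node 150 (.node 145 (.node 142 (.node 141 (.leaf 0x20001) (.leaf 0x0)) (.node 143 (.leaf 0x2000002) (.node 144 (.leaf 0x0) (.leaf 0x20001)))) (.node 147 (.node 146 (.leaf 0x0) (.leaf 0x2020002)) (.node 148 (.leaf 0x0) (.node 149 (.leaf 0x202040003) (.leaf 0x0))))) (.node 155 (.node 152 (.node 151 (.leaf 0x200020003) (.leaf 0x0)) (.node 153 (.leaf 0x200020003) (.node 154 (.leaf 0x0) (.leaf 0x2000002)))) (.node 157 (.node 156 (.leaf 0x0) (.leaf 0x200040003)) (.node 158 (.leaf 0x0) (.node 159 (.leaf 0x20004020004) (.leaf 0x0))))))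

def argWS_13 : Store := (.node 140 argWS_11 argWS_12)

def argWS_14 : Store := (.node 120 argWS_10 argWS_13)

def argWS_15 : Store := (.node 80 argWS_7 argWS_14)

def argWS_16 : Store := (.node 170 (.node 165 (.node 162 (.node 161 (.leaf 0x2000402040005) (.leaf 0x0)) (.node 163 (.leaf 0x20002020004) (.node 164 (.leaf 0x0) (.leaf 0x20002000004)))) (.node 167 (.node 166 (.leaf 0x0) (.leaf 0x3040002)) (.node 168 (.leaf 0x0) (.node 169 (.leaf 0x0) (.leaf 0x0))))) (.node 175 (.node 172 (.node 171 (.leaf 0x300040003) (.leaf 0x0)) (.node 173 (.leaf 0x0) (.node 174 (.leaf 0x3010303050005) (.leaf 0x300050003)))) (.node 177 (.node 176 (.leaf 0x0) (.leaf 0xb09080d0004)) (.node 178 (.leaf 0x0) (.node 179 (.leaf 0x0) (.leaf 0x2000200020005))))))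

def argWS_17 : Store := (.node 190 (.node 185 (.node 182 (.node 181 (.leaf 0x0) (.leaf 0x0)) (.node 183 (.leaf 0x4030104030005) (.node 184 (.leaf 0x200020002060006) (.leaf 0x0)))) (.node 187 (.node 186 (.leaf 0xb0f0c0a0004) (.leaf 0x0)) (.node 188 (.leaf 0x0) (.node 189 (.leaf 0x0) (.leaf 0x0))))) (.node 195 (.node 192 (.node 191 (.leaf 0x104020603030006) (.leaf 0x0)) (.node 193 (.leaf 0x0) (.node 194 (.leaf 0x403000002060305030603000b) (.leaf 0x104020603030006)))) (.node 197 (.node 196 (.leaf 0x0) (.leaf 0x103000002060202060305000b)) (.node 198 (.leaf 0x0) (.node 199 (.leaf 0x104020603030006) (.leaf 0x0))))))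

def argWS_18 : Store := (.node 180 argWS_16 argWS_17)

def argWS_19 : Store := (.node 210 (.node 205 (.node 202 (.node 201 (.leaf 0x2020603050007) (.leaf 0x0)) (.node 203 (.leaf 0x403000002060305030603000b) (.node 204 (.leaf 0x0) (.leaf 0x2020603040007)))) (.node 207 (.node 206 (.leaf 0x0) (.leaf 0x403000002060305030603000b)) (.node 208 (.leaf 0x0) (.node 209 (.leaf 0x103000002060202060305000b) (.leaf 0x0))))) (.node 215 (.node 212 (.node 211 (.leaf 0x6030604020006) (.leaf 0x0)) (.node 213 (.leaf 0x0) (.node 214 (.leaf 0x50102000003060305030603000c) (.leaf 0x0)))) (.node 217 (.node 216 (.leaf 0xa0b0002) (.leaf 0x30001)) (.node 218 (.leaf 0x0) (.node 219 (.leaf 0x0) (.leaf 0x3000002060005))))))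

def argWS_20 : Store := (.node 230 (.node 225 (.node 222 (.node 221 (.leaf 0x0) (.leaf 0xc090f0a0e0005)) (.node 223 (.leaf 0x30001) (.node 224 (.leaf 0x0) (.leaf 0x0)))) (.node 227 (.node 226 (.leaf 0x50002) (.leaf 0x0)) (.node 228 (.leaf 0x0) (.node 229 (.leaf 0x403000002060006) (.leaf 0x20603030004))))) (.node 235 (.node 232 (.node 231 (.leaf 0x0) (.leaf 0xc090c0a0004)) (.node 233 (.leaf 0x30001) (.node 234 (.leaf 0x0) (.leaf 0x0)))) (.node 237 (.node 236 (.leaf 0x0) (.leaf 0x0)) (.node 238 (.leaf 0x40200000206030007) (.node 239 (.leaf 0x0) (.leaf 0x0))))))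

def argWS_21 : Store := (.node 220 argWS_19 argWS_20)

def argWS_22 : Store := (.node 200 argWS_18 argWS_21)

def argWS_23 : Store := (.node 250 (.node 245 (.node 242 (.node 241 (.leaf 0x30604020006) (.leaf 0x0)) (.node 243 (.leaf 0x0) (.node 244 (.leaf 0x4020000030603060402000a) (.leaf 0xb080d0a0004)))) (.node 247 (.node 246 (.leaf 0x0) (.leaf 0x1030002)) (.node 248 (.leaf 0x3060002000402050008) (.node 249 (.leaf 0x0) (.leaf 0x7070f0c0d0005))))) (.node 255 (.node 252 (.node 251 (.leaf 0x0) (.leaf 0xb090f0e0a0005)) (.node 253 (.leaf 0xfb0000fa) (.node 254 (.leaf 0x0) (.leaf 0x3000002020605030008)))) (.node 257 (.node 256 (.leaf 0x3030000030602040008) (.leaf 0x0)) (.node 258 (.leaf 0x0) (.node 259 (.leaf 0x0) (.leaf 0xc0001))))))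

def argWS_24 : Store := (.node 270 (.node 265 (.node 262 (.node 261 (.leaf 0x0) (.leaf 0x40200000206030007)) (.node 263 (.leaf 0x0) (.node 264 (.leaf 0xa0b0a0003) (.leaf 0x20001)))) (.node 267 (.node 266 (.leaf 0x0) (.leaf 0x0)) (.node 268 (.leaf 0x0) (.node 269 (.leaf 0x1040002) (.leaf 0x20004020005))))) (.node 275 (.node 272 (.node 271 (.leaf 0x0) (.leaf 0xc090e0a0004)) (.node 273 (.leaf 0x0) (.node 274 (.leaf 0x0) (.leaf 0x0)))) (.node 277 (.node 276 (.leaf 0x30001) (.leaf 0x0)) (.node 278 (.leaf 0x30602020603040009) (.node 279 (.leaf 0x20001) (.leaf 0x0))))))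

def argWS_25 : Store := (.node 260 argWS_23 argWS_24)

def argWS_26 : Store := (.node 290 (.node 285 (.node 282 (.node 281 (.leaf 0x0) (.leaf 0x0)) (.node 283 (.leaf 0x90f0c0a0004) (.node 284 (.leaf 0x3000004020603030008) (.leaf 0x0)))) (.node 287 (.node 286 (.leaf 0xb070d0003) (.leaf 0x0)) (.node 288 (.leaf 0x602000306040006) (.node 289 (.leaf 0x401030102060402060303000b) (.leaf 0x0))))) (.node 295 (.node 292 (.node 291 (.leaf 0x80f0e0a0004) (.leaf 0x0)) (.node 293 (.leaf 0x123) (.node 294 (.leaf 0x0) (.leaf 0x202000002060202020603000b)))) (.node 297 (.node 296 (.leaf 0x500000201030006) (.leaf 0x0)) (.node 298 (.leaf 0x0) (.node 299 (.leaf 0x0) (.leaf 0x80f0c0d0004))))))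

def argWS_27 : Store := (.node 310 (.node 305 (.node 302 (.node 301 (.leaf 0x30604020006) (.leaf 0x0)) (.node 303 (.leaf 0x4020000060202060503000a) (.node 304 (.leaf 0x0) (.leaf 0x30604020006)))) (.node 307 (.node 306 (.leaf 0x0) (.leaf 0x0)) (.node 308 (.leaf 0x0) (.node 309 (.leaf 0x40001) (.leaf 0x0))))) (.node 315 (.node 312 (.node 311 (.leaf 0xa0b090f0c0d0006) (.leaf 0x301030003)) (.node 313 (.leaf 0x0) (.node 314 (.leaf 0x0) (.leaf 0x0)))) (.node 317 (.node 316 (.leaf 0x0) (.leaf 0x6020603030007)) (.node 318 (.leaf 0x9080d0a0004) (.node 319 (.leaf 0xb090a0e0004) (.leaf 0x0))))))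

def argWS_28 : Store := (.node 300 argWS_26 argWS_27)

def argWS_29 : Store := (.node 280 argWS_25 argWS_28)

def argWS_30 : Store := (.node 240 argWS_22 argWS_29)

def argWS_31 : Store := (.node 160 argWS_15 argWS_30)

def argWS_32 : Store := (.node 330 (.node 325 (.node 322 (.node 321 (.leaf 0x202000002060202020603000b) (.leaf 0x10206030004)) (.node 323 (.leaf 0x0) (.node 324 (.leaf 0xb080f0e0a0005) (.leaf 0x0)))) (.node 327 (.node 326 (.leaf 0x14400013e) (.leaf 0x0)) (.node 328 (.leaf 0x3000002020605030008) (.node 329 (.leaf 0x201060402060303000a) (.leaf 0x0))))) (.node 335 (.node 332 (.node 331 (.leaf 0x0) (.leaf 0x0)) (.node 333 (.leaf 0xf0d0002) (.node 334 (.leaf 0x0) (.leaf 0x402000006050006)))) (.node 337 (.node 336 (.leaf 0x200000206020402060303000b) (.leaf 0x0)) (.node 338 (.leaf 0xb0a0002) (.node 339 (.leaf 0x0) (.leaf 0x0))))))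

def argWS_33 : Store := (.node 350 (.node 345 (.node 342 (.node 341 (.leaf 0x50001) (.leaf 0x3010602020202060305000b)) (.node 343 (.leaf 0x0) (.node 344 (.leaf 0x9070a0003) (.leaf 0x0)))) (.node 347 (.node 346 (.leaf 0x158) (.leaf 0x0)) (.node 348 (.leaf 0x602020603050008) (.node 349 (.leaf 0x2020102060202020603000a) (.leaf 0x0))))) (.node 355 (.node 352 (.node 351 (.leaf 0x0) (.leaf 0x0)) (.node 353 (.leaf 0x7070e0a0004) (.node 354 (.leaf 0x0) (.leaf 0x0)))) (.node 357 (.node 356 (.leaf 0x406030503060006) (.leaf 0x20102000604020007)) (.node 358 (.leaf 0x0) (.node 359 (.leaf 0x0) (.leaf 0x0))))))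

def argWS_34 : Store := (.node 340 argWS_32 argWS_33)

def argWS_35 : Store := (.node 370 (.node 365 (.node 362 (.node 361 (.leaf 0xb09070e0004) (.leaf 0x0)) (.node 363 (.leaf 0xb090f0e0004) (.node 364 (.leaf 0x30001) (.leaf 0x0)))) (.node 367 (.node 366 (.leaf 0x0) (.leaf 0x3000002060402060303000a)) (.node 368 (.leaf 0x0) (.node 369 (.leaf 0x90d0002) (.leaf 0x30001))))) (.node 375 (.node 372 (.node 371 (.leaf 0x0) (.leaf 0x0)) (.node 373 (.leaf 0x0) (.node 374 (.leaf 0x0) (.leaf 0x604020603030006)))) (.node 377 (.node 376 (.leaf 0x0) (.leaf 0x0)) (.node 378 (.leaf 0x6030604020005) (.node 379 (.leaf 0xf0e0c0003) (.leaf 0x0))))))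

def argWS_36 : Store := (.node 390 (.node 385 (.node 382 (.node 381 (.leaf 0x50102000003060202060304000c) (.leaf 0x6000002000602060503000a)) (.node 383 (.leaf 0x0) (.node 384 (.leaf 0xa0b090c0004) (.leaf 0x0)))) (.node 387 (.node 386 (.leaf 0x0) (.leaf 0x4020000030603060402000a)) (.node 388 (.leaf 0x200000603040006) (.node 389 (.leaf 0x0) (.leaf 0x7070f0e0004))))) (.node 395 (.node 392 (.node 391 (.leaf 0x0) (.leaf 0x186000180)) (.node 393 (.leaf 0x6030604020005) (.node 394 (.leaf 0x0) (.leaf 0x0)))) (.node 397 (.node 396 (.leaf 0x60306030503060007) (.leaf 0x2000006050005)) (.node 398 (.leaf 0x0) (.node 399 (.leaf 0x0) (.leaf 0x0))))))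

def argWS_37 : Store := (.node 380 argWS_35 argWS_36)

def argWS_38 : Store := (.node 360 argWS_34 argWS_37)

def argWS_39 : Store := (.node 410 (.node 405 (.node 402 (.node 401 (.leaf 0x90f0c0a0004) (.leaf 0x0)) (.node 403 (.leaf 0x6030604020005) (.node 404 (.leaf 0x0) (.leaf 0x3050306030005)))) (.node 407 (.node 406 (.leaf 0x0) (.leaf 0xf0e0a0003)) (.node 408 (.leaf 0x30001) (.node 409 (.leaf 0x0) (.leaf 0x0))))) (.node 415 (.node 412 (.node 411 (.leaf 0xb090002) (.leaf 0x0)) (.node 413 (.leaf 0x0) (.node 414 (.leaf 0x20001) (.leaf 0x202020603040006)))) (.node 417 (.node 416 (.leaf 0x0) (.leaf 0x604020003)) (.node 418 (.leaf 0x0) (.node 419 (.leaf 0x0) (.leaf 0x20604020603030007))))))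

def argWS_40 : Store := (.node 430 (.node 425 (.node 422 (.node 421 (.leaf 0x30001) (.leaf 0x0)) (.node 423 (.leaf 0x0) (.node 424 (.leaf 0x0) (.leaf 0xf0e0c0003)))) (.node 427 (.node 426 (.leaf 0x202020603040006) (.leaf 0x0)) (.node 428 (.leaf 0x604020003) (.node 429 (.leaf 0x0) (.leaf 0x20603050306030007))))) (.node 435 (.node 432 (.node 431 (.leaf 0x0) (.leaf 0x0)) (.node 433 (.leaf 0x303050003) (.node 434 (.leaf 0x4030000060202060305000a) (.leaf 0x0)))) (.node 437 (.node 436 (.leaf 0xb090e0a0004) (.leaf 0x0)) (.node 438 (.leaf 0x0) (.node 439 (.leaf 0x4020000030602060503000a) (.leaf 0x603030003))))))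

def argWS_41 : Store := (.node 420 argWS_39 argWS_40)

def argWS_42 : Store := (.node 450 (.node 445 (.node 442 (.node 441 (.leaf 0x0) (.leaf 0xa0b090f0e0005)) (.node 443 (.leaf 0x0) (.node 444 (.leaf 0x0) (.leaf 0x3060206030604020008)))) (.node 447 (.node 446 (.leaf 0x3030000020602020603000a) (.leaf 0x0)) (.node 448 (.leaf 0xb0f0a0003) (.node 449 (.leaf 0x0) (.leaf 0x1c00001ba))))) (.node 455 (.node 452 (.node 451 (.leaf 0x0) (.leaf 0x4020000030602060503000a)) (.node 453 (.leaf 0x306050003) (.node 454 (.leaf 0x0) (.leaf 0xb090f0e0004)))) (.node 457 (.node 456 (.leaf 0x0) (.leaf 0x0)) (.node 458 (.leaf 0x0) (.node 459 (.leaf 0x303000004020603040009) (.leaf 0x303000003030503060009))))))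

def argWS_43 : Store := (.node 470 (.node 465 (.node 462 (.node 461 (.leaf 0x0) (.leaf 0x303000004020603040009)) (.node 463 (.leaf 0x0) (.node 464 (.leaf 0xb0e0a0003) (.leaf 0x0)))) (.node 467 (.node 466 (.leaf 0x0) (.leaf 0x0)) (.node 468 (.leaf 0x0) (.node 469 (.leaf 0x50306030004) (.leaf 0xc090002))))) (.node 475 (.node 472 (.node 471 (.leaf 0x0) (.leaf 0x0)) (.node 473 (.leaf 0x3000004020603030008) (.node 474 (.leaf 0x0) (.leaf 0x403000006020202060304000b)))) (.node 477 (.node 476 (.leaf 0x0) (.leaf 0xa0b090a0e0005)) (.node 478 (.leaf 0x0) (.node 479 (.leaf 0x0) (.leaf 0x30604020006))))))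

def argWS_44 : Store := (.node 460 argWS_42 argWS_43)

def argWS_45 : Store := (.node 440 argWS_41 argWS_44)

def argWS_46 : Store := (.node 400 argWS_38 argWS_45)

def argWS_47 : Store := (.node 490 (.node 485 (.node 482 (.node 481 (.leaf 0x0) (.leaf 0x3030000030605030603000a)) (.node 483 (.leaf 0x0) (.node 484 (.leaf 0x0) (.leaf 0x3000002020603030008)))) (.node 487 (.node 486 (.leaf 0x2010002) (.leaf 0x0)) (.node 488 (.leaf 0x0) (.node 489 (.leaf 0x0) (.leaf 0x7070c0d0004))))) (.node 495 (.node 492 (.node 491 (.leaf 0x0) (.leaf 0x30604020006)) (.node 493 (.leaf 0x0) (.node 494 (.leaf 0x3000002060402060303000a) (.leaf 0x0)))) (.node 497 (.node 496 (.leaf 0x0) (.leaf 0x4020000030603060402000a)) (.node 498 (.leaf 0x4020000030402060303000a) (.node 499 (.leaf 0x0) (.leaf 0x90f0e0003))))))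

def argWS_48 : Store := (.node 510 (.node 505 (.node 502 (.node 501 (.leaf 0x3010002) (.leaf 0x0)) (.node 503 (.leaf 0x0) (.node 504 (.leaf 0x30604020006) (.leaf 0x0)))) (.node 507 (.node 506 (.leaf 0x4020000060202060503000a) (.leaf 0x0)) (.node 508 (.leaf 0x303000006020202060305000b) (.node 509 (.leaf 0x0) (.leaf 0x0))))) (.node 515 (.node 512 (.node 511 (.leaf 0x4020000030603060402000a) (.leaf 0x200000306020603030009)) (.node 513 (.leaf 0x0) (.node 514 (.leaf 0xb0a0002) (.leaf 0x3010002)))) (.node 517 (.node 516 (.leaf 0x0) (.leaf 0x0)) (.node 518 (.leaf 0x4020000060202060503000a) (.node 519 (.leaf 0x0) (.leaf 0x3060306030503060008))))))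

def argWS_49 : Store := (.node 500 argWS_47 argWS_48)

def argWS_50 : Store := (.node 530 (.node 525 (.node 522 (.node 521 (.leaf 0x0) (.leaf 0x0)) (.node 523 (.leaf 0x6030004) (.node 524 (.leaf 0x201030003) (.leaf 0x0)))) (.node 527 (.node 526 (.leaf 0x9070f0003) (.leaf 0x0)) (.node 528 (.leaf 0x0) (.node 529 (.leaf 0x0) (.leaf 0x0))))) (.node 535 (.node 532 (.node 531 (.leaf 0x30002020603030008) (.leaf 0x3000004020603030008)) (.node 533 (.leaf 0x0) (.node 534 (.leaf 0x403000006020202060304000b) (.leaf 0x0)))) (.node 537 (.node 536 (.leaf 0x0) (.leaf 0x300000602020603060402000b)) (.node 538 (.leaf 0x30001) (.node 539 (.leaf 0x0) (.leaf 0x0))))))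

def argWS_51 : Store := (.node 550 (.node 545 (.node 542 (.node 541 (.leaf 0x0) (.leaf 0x90f0002)) (.node 543 (.leaf 0x0) (.node 544 (.leaf 0x0) (.leaf 0x0)))) (.node 547 (.node 546 (.leaf 0x0) (.leaf 0x60306030503060007)) (.node 548 (.leaf 0x6020605030005) (.node 549 (.leaf 0x0) (.leaf 0x0))))) (.node 555 (.node 552 (.node 551 (.leaf 0x0) (.leaf 0x60202020603050008)) (.node 553 (.leaf 0x30604020006) (.node 554 (.leaf 0x0) (.leaf 0x3000002060402060303000a)))) (.node 557 (.node 556 (.leaf 0x0) (.leaf 0x0)) (.node 558 (.leaf 0x200000303030603050306000b) (.node 559 (.leaf 0x201020004020202060305000b) (.leaf 0x0))))))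

def argWS_52 : Store := (.node 540 argWS_50 argWS_51)

def argWS_53 : Store := (.node 520 argWS_49 argWS_52)

def argWS_54 : Store := (.node 570 (.node 565 (.node 562 (.node 561 (.leaf 0x0) (.leaf 0x0)) (.node 563 (.leaf 0x70c0a0003) (.node 564 (.leaf 0x0) (.leaf 0x0)))) (.node 567 (.node 566 (.leaf 0x300000603050007) (.leaf 0x3000004020603030008)) (.node 568 (.leaf 0x0) (.node 569 (.leaf 0x3010602020603050009) (.leaf 0x0))))) (.node 575 (.node 572 (.node 571 (.leaf 0x0) (.leaf 0x306000200050306030009)) (.node 573 (.leaf 0x3010002) (.node 574 (.leaf 0x0) (.leaf 0x0)))) (.node 577 (.node 576 (.leaf 0x0) (.leaf 0xb09080f0e0a0006)) (.node 578 (.leaf 0x3000004020603030008) (.node 579 (.leaf 0x0) (.leaf 0x0))))))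

def argWS_55 : Store := (.node 590 (.node 585 (.node 582 (.node 581 (.leaf 0x0) (.leaf 0x0)) (.node 583 (.leaf 0x402000006050006) (.node 584 (.leaf 0x306030603050306000a) (.leaf 0x0)))) (.node 587 (.node 586 (.leaf 0xf0e0a0003) (.leaf 0x0)) (.node 588 (.leaf 0x0) (.node 589 (.leaf 0x0) (.leaf 0x0))))) (.node 595 (.node 592 (.node 591 (.leaf 0x0) (.leaf 0x200020006020202060503000b)) (.node 593 (.leaf 0x301020003) (.node 594 (.leaf 0x2000201060202020603000a) (.leaf 0x0)))) (.node 597 (.node 596 (.leaf 0x20102000604020007) (.leaf 0x0)) (.node 598 (.leaf 0x0) (.node 599 (.leaf 0x0) (.leaf 0x102000603050306030009))))))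

def argWS_56 : Store := (.node 580 argWS_54 argWS_55)

def argWS_57 : Store := (.node 610 (.node 605 (.node 602 (.node 601 (.leaf 0x0) (.leaf 0x102000006020605030009)) (.node 603 (.leaf 0x0) (.node 604 (.leaf 0x3000002020202060304000b) (.leaf 0x0)))) (.node 607 (.node 606 (.leaf 0x501020106020202060303000b) (.leaf 0x0)) (.node 608 (.leaf 0x200020106030503060009) (.node 609 (.leaf 0x0) (.leaf 0x0))))) (.node 615 (.node 612 (.node 611 (.leaf 0x20102040004) (.leaf 0x301040605030007)) (.node 613 (.leaf 0x0) (.node 614 (.leaf 0x0) (.leaf 0x0)))) (.node 617 (.node 616 (.leaf 0x70f0a0003) (.leaf 0x0)) (.node 618 (.leaf 0x0) (.node 619 (.leaf 0x0) (.leaf 0x0))))))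

def argWS_58 : Store := (.node 630 (.node 625 (.node 622 (.node 621 (.leaf 0x10300040603030007) (.leaf 0x30001)) (.node 623 (.leaf 0x6020002060202060305000a) (.node 624 (.leaf 0x0) (.leaf 0x0)))) (.node 627 (.node 626 (.leaf 0x0) (.leaf 0x0)) (.node 628 (.leaf 0x20001) (.node 629 (.leaf 0x0) (.leaf 0x2000002))))) (.node 635 (.node 632 (.node 631 (.leaf 0x0) (.leaf 0x200020003)) (.node 633 (.leaf 0x0) (.node 634 (.leaf 0x0) (.leaf 0x303010303050006)))) (.node 638 (.node 636 (.leaf 0x500020004030402060303000b) (.node 637 (.leaf 0x0) (.leaf 0x0))) (.node 639 (.leaf 0x0) (.node 640 (.leaf 0xa0b090f0a0e0006) (.leaf 0x0))))))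

def argWS_59 : Store := (.node 620 argWS_57 argWS_58)

def argWS_60 : Store := (.node 600 argWS_56 argWS_59)

def argWS_61 : Store := (.node 560 argWS_53 argWS_60)

def argWS_62 : Store := (.node 480 argWS_46 argWS_61)

def argWS : Store := (.node 320 argWS_31 argWS_62)

def nodeSrcS : Store := (.leaf 0x20001000100000000)

noncomputable def nodeSrc : Nat → Nat := get16 nodeSrcS

def nodeWS : Store := (.node 2 (.node 1 (.leaf 0x0) (.leaf 0x0)) (.node 3 (.leaf 0x30001) (.node 4 (.leaf 0x301030003) (.leaf 0x30001))))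

def nodeTS : Store := (.leaf 0x10001000100010000)

noncomputable def nodeT : Nat → Nat := get16 nodeTS


end Cfsg.Agent.HSRecog.Cert4
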